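import Cfsg.Agent.Lib.KnownB.J1.Order
import Cfsg.Agent.Lib.KnownB.Mult.Main

/-!
The certificate at `2` for the multiplier of `Cfsg.Spor.J1`: the Sylow subgroup is elementary of
order `8` and an element of order `7` permutes its involutions.
-/

set_option autoImplicit false
set_option maxRecDepth 100000

namespace CfsgLib.KnownB.J1

open Cfsg.Spor

/-- words of the elements used -/
def certWords : List (List Bool) := [
  [false, true, true, false, true, false, true, false, false, false, false, true, true, true, true, true, true, true, true, true, true, true, true, true, true, true, true, true, true, false, false, false, false, false, false, false, false, false, true, true, false, true, false, true, false, false, false, false, true, true, true, true, true, true, true, true, true, true, true, true, true, true, true, true, true, true, false, false, false, false, false, false, false, false, false, true, true, false, true, false, true, false, false, false, false, true, true, true, true, true, true, true, true, true, true, true, true, true, true, true, true, true, true, false, false, false, false, false, false, false, false],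
  [false, true, true, true, true, false, false, false, false, true, true, true, true, true, true, true, true, true, true, true, true, true, true, true, true, true, true],
  [false, true, true, false, true, false, true, false, false, false, false, true, true, true, true, true, true, true, true, true, true, true, true, true, true, true, true, true, true, false, false, false, false, false, false, false, false, false, true, true, true, true, false, false, false, false, true, true, true, true, true, true, true, true, true, true, true, true, true, true, true, true, true, true, false, true, true, false, true, false, true, false, false, false, false, true, true, true, true, true, true, true, true, true, true, true, true, true, true, true, true, true, true, false, false, false, false, false, false, false, false, false, true, true, false, true, false, true, false, false, false, false, true, true, true, true, true, true, true, true, true, true, true, true, true, true, true, true, true, true, false, false, false, false, false, false, false, false],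
  [true, false, false, true, true, false, true, false, true, false, false, false, false, true, true, true, true, true, true, true, true, true, true, true, true, true, true, true, true, true, true, false, false, false, false, false, false, false, false, false, true, true, false, true, false, true, false, false, false, false, true, true, true, true, true, true, true, true, true, true, true, true, true, true, true, true, true, true, false, false, false, false, false, false, false, false, false, true, true, true, true, false, false, false, false, true, true, true, true, true, true, true, true, true, true, true, true, true, true, true, true, true, true, true, false, false, true, false, true, false, false, false, true, true, true, true, true]]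

/-- the code -/
def code : Mult.Code J1 M7 where
  rep g x := encJ g = x
  mul := mul
  one := one
  eqc := eqM
  okc x := certWords.any fun w => eqM (word w) x
  rep_mul {a b x y} ha hb := by rw [encJ_mul, ha, hb]
  rep_one := encJ_one
  eq_iff {a b x y} ha hb := by rw [eqM_iff, ← ha, ← hb, encJ_injective.eq_iff]
  exists_rep {x} h := by
    obtain ⟨w, -, hw⟩ := List.any_eq_true.1 h
    rw [eqM_iff] at hw
    subst hw
    exact exists_word w

/-- certificate at 2 -/
def cert2 : Mult.Cert M7 where
  n := 3
  σ := [⟨4614219293217783813,14167099448677789343744,42501298346514052055040,4722366483075971420160,6919499352478056457,10377982391321886724,14167099448677806125056⟩, ⟨1,40960,167772160,687194767360,281474976710656,1152921504606846976,47223664828696452136960⟩, ⟨2307531859073957895,9444732965808060268544,37778931863644507484160,47223664829246375727104,8072983807038324742,5766577847871209474,37778931863644490702848⟩]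
  rules := [([0, 0], []),
    ([1, 1], []),
    ([2, 2], []),
    ([1, 0], [0, 1]),
    ([2, 0], [0, 2]),
    ([2, 1], [1, 2])]
  conjs := [(⟨37782393161158206967809,23611832696166850519042,18891773463887477764102,42502451267949905846280,9456264432653942419463,2307532408863354888,14177477150006484959237⟩, [0], [0, 1, 2]),
    (⟨37782393161158206967809,23611832696166850519042,18891773463887477764102,42502451267949905846280,9456264432653942419463,2307532408863354888,14177477150006484959237⟩, [1], [0, 1]),
    (⟨37782393161158206967809,23611832696166850519042,18891773463887477764102,42502451267949905846280,9456264432653942419463,2307532408863354888,14177477150006484959237⟩, [2], [0])]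
  rows := [(.cnj 0 [0, 1] [1, 0], [0, 0, 0, 1, 1, 1, 0, 0]),
    (.cnj 0 [0, 2] [2, 0], [0, 0, 0, 1, 0, 0, 0, 0, 0]),
    (.cnj 0 [1, 2] [2, 1], [0, 0, 0, 1, 0, 1, 0, 0, 0]),
    (.cnj 0 [0, 0] [], [0, 1, 1, 1, 1, 1, 0]),
    (.cnj 0 [1, 1] [], [1, 0, 0, 1, 0, 0, 0, 0]),
    (.cnj 0 [2, 2] [], [1, 0, 1, 0, 0, 0, 0, 0, 0])]
  lam := [[], [], []]
  combos := [[(1, 1), (4, 1)],
    [(0, 1), (1, 1), (3, 1), (4, 1), (5, 1)],
    [(1, 1), (4, 1), (5, 1)],
    [(1, 1)],
    [(0, 1), (2, 1)],
    [(1, 1), (2, 1)]]

theorem cert2_valid : cert2.Valid code 2 := by
  refine ⟨?_, ?_, ?_, ?_, ?_, ?_⟩ <;> decide +kernel

end CfsgLib.KnownB.J1
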