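import Cfsg.Prelude.Def_Spor_J1

/-!
`7 × 7` matrices modulo `11` as seven packed rows, for computations in `Cfsg.Spor.J1`.
-/

set_option autoImplicit false

namespace CfsgLib.KnownB.J1

open Matrix Cfsg.Spor

/-- seven packed rows -/
structure M7 where
  r0 : ℕ
  r1 : ℕ
  r2 : ℕ
  r3 : ℕ
  r4 : ℕ
  r5 : ℕ
  r6 : ℕ

/-- pack seven digits in base `4096` -/
def pack (a0 a1 a2 a3 a4 a5 a6 : ℕ) : ℕ :=
  a0 + 4096 * (a1 + 4096 * (a2 + 4096 * (a3 + 4096 * (a4 + 4096 * (a5 + 4096 * a6)))))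

/-- reduce the digits modulo `11` -/
def red (v : ℕ) : ℕ :=
  pack (v % 4096 % 11) (v / 4096 % 4096 % 11) (v / 16777216 % 4096 % 11)
    (v / 68719476736 % 4096 % 11) (v / 281474976710656 % 4096 % 11)
    (v / 1152921504606846976 % 4096 % 11) (v / 4722366482869645213696 % 4096 % 11)

/-- a packed row times a matrix -/
def rowMul (v : ℕ) (y : M7) : ℕ :=
  red (v % 4096 * y.r0 + v / 4096 % 4096 * y.r1 + v / 16777216 % 4096 * y.r2 +
    v / 68719476736 % 4096 * y.r3 + v / 281474976710656 % 4096 * y.r4 +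
    v / 1152921504606846976 % 4096 * y.r5 + v / 4722366482869645213696 % 4096 * y.r6)

/-- product -/
def mul (x y : M7) : M7 :=
  ⟨rowMul x.r0 y, rowMul x.r1 y, rowMul x.r2 y, rowMul x.r3 y, rowMul x.r4 y, rowMul x.r5 y,
    rowMul x.r6 y⟩

/-- equality test -/
def eqM (x y : M7) : Bool :=
  Nat.beq x.r0 y.r0 && Nat.beq x.r1 y.r1 && Nat.beq x.r2 y.r2 && Nat.beq x.r3 y.r3 &&
    Nat.beq x.r4 y.r4 && Nat.beq x.r5 y.r5 && Nat.beq x.r6 y.r6

theorem eqM_iff {x y : M7} : eqM x y = true ↔ x = y := by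
  cases x; cases y
  simp [eqM, and_assoc]

theorem digits_pack {a0 a1 a2 a3 a4 a5 a6 : ℕ} (h0 : a0 < 4096) (h1 : a1 < 4096) (h2 : a2 < 4096)
    (h3 : a3 < 4096) (h4 : a4 < 4096) (h5 : a5 < 4096) (h6 : a6 < 4096) :
    pack a0 a1 a2 a3 a4 a5 a6 % 4096 = a0 ∧
    pack a0 a1 a2 a3 a4 a5 a6 / 4096 % 4096 = a1 ∧
    pack a0 a1 a2 a3 a4 a5 a6 / 16777216 % 4096 = a2 ∧
    pack a0 a1 a2 a3 a4 a5 a6 / 68719476736 % 4096 = a3 ∧
    pack a0 a1 a2 a3 a4 a5 a6 / 281474976710656 % 4096 = a4 ∧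
    pack a0 a1 a2 a3 a4 a5 a6 / 1152921504606846976 % 4096 = a5 ∧
    pack a0 a1 a2 a3 a4 a5 a6 / 4722366482869645213696 % 4096 = a6 := by
  unfold pack
  omega

/-- a vector as a packed row -/
def encRow (f : Fin 7 → ZMod 11) : ℕ :=
  pack (f 0).val (f 1).val (f 2).val (f 3).val (f 4).val (f 5).val (f 6).val

/-- a matrix as packed rows -/
def enc (A : Matrix (Fin 7) (Fin 7) (ZMod 11)) : M7 :=
  ⟨encRow (A 0), encRow (A 1), encRow (A 2), encRow (A 3), encRow (A 4), encRow (A 5), encRow (A 6)⟩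

theorem val_lt_4096 (a : ZMod 11) : a.val < 4096 := lt_trans (ZMod.val_lt a) (by norm_num)

theorem encRow_injective : Function.Injective encRow := by
  intro f g h
  have hf := digits_pack (val_lt_4096 (f 0)) (val_lt_4096 (f 1)) (val_lt_4096 (f 2))
    (val_lt_4096 (f 3)) (val_lt_4096 (f 4)) (val_lt_4096 (f 5)) (val_lt_4096 (f 6))
  have hg := digits_pack (val_lt_4096 (g 0)) (val_lt_4096 (g 1)) (val_lt_4096 (g 2))
    (val_lt_4096 (g 3)) (val_lt_4096 (g 4)) (val_lt_4096 (g 5)) (val_lt_4096 (g 6))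
  rw [encRow] at h
  rw [h] at hf
  rw [encRow] at h
  funext i
  apply ZMod.val_injective
  fin_cases i
  · exact hf.1.symm.trans hg.1
  · exact hf.2.1.symm.trans hg.2.1
  · exact hf.2.2.1.symm.trans hg.2.2.1
  · exact hf.2.2.2.1.symm.trans hg.2.2.2.1
  · exact hf.2.2.2.2.1.symm.trans hg.2.2.2.2.1
  · exact hf.2.2.2.2.2.1.symm.trans hg.2.2.2.2.2.1
  · exact hf.2.2.2.2.2.2.symm.trans hg.2.2.2.2.2.2

theorem enc_injective : Function.Injective enc := by
  intro A B h
  simp only [enc, M7.mk.injEq] at h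
  refine funext fun i => ?_
  fin_cases i <;> apply encRow_injective
  · exact h.1
  · exact h.2.1
  · exact h.2.2.1
  · exact h.2.2.2.1
  · exact h.2.2.2.2.1
  · exact h.2.2.2.2.2.1
  · exact h.2.2.2.2.2.2

theorem rowMul_encRow (f : Fin 7 → ZMod 11) (B : Matrix (Fin 7) (Fin 7) (ZMod 11)) :
    rowMul (encRow f) (enc B) = encRow (vecMul f B) := by
  have hb : ∀ i, (f i).val ≤ 10 := fun i => Nat.le_of_lt_succ (ZMod.val_lt _)
  obtain ⟨e0, e1, e2, e3, e4, e5, e6⟩ := digits_pack (val_lt_4096 (f 0)) (val_lt_4096 (f 1))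
    (val_lt_4096 (f 2)) (val_lt_4096 (f 3)) (val_lt_4096 (f 4)) (val_lt_4096 (f 5))
    (val_lt_4096 (f 6))
  have key : ∀ j, (vecMul f B j).val = (∑ k, (f k).val * (B k j).val) % 11 := fun j => by
    rw [← ZMod.val_natCast, Nat.cast_sum]
    simp [vecMul, dotProduct]
  have hs : ∀ j, ∑ k, (f k).val * (B k j).val < 4096 := fun j => by
    have : ∀ k, (f k).val * (B k j).val ≤ 10 * 10 := fun k =>
      Nat.mul_le_mul (hb k) (Nat.le_of_lt_succ (ZMod.val_lt _))
    have := Finset.sum_le_sum (s := Finset.univ) (fun k _ => this k)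
    simp only [Finset.sum_const, Finset.card_univ, Fintype.card_fin, smul_eq_mul] at this
    omega
  rw [rowMul, encRow, e0, e1, e2, e3, e4, e5, e6]
  have hp : (f 0).val * (enc B).r0 + (f 1).val * (enc B).r1 + (f 2).val * (enc B).r2 +
      (f 3).val * (enc B).r3 + (f 4).val * (enc B).r4 + (f 5).val * (enc B).r5 +
      (f 6).val * (enc B).r6 =
      pack (∑ k, (f k).val * (B k 0).val) (∑ k, (f k).val * (B k 1).val)
        (∑ k, (f k).val * (B k 2).val) (∑ k, (f k).val * (B k 3).val)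
        (∑ k, (f k).val * (B k 4).val) (∑ k, (f k).val * (B k 5).val)
        (∑ k, (f k).val * (B k 6).val) := by
    simp only [enc, encRow, pack, Fin.sum_univ_seven]
    ring
  rw [hp, red]
  obtain ⟨d0, d1, d2, d3, d4, d5, d6⟩ :=
    digits_pack (hs 0) (hs 1) (hs 2) (hs 3) (hs 4) (hs 5) (hs 6)
  rw [d0, d1, d2, d3, d4, d5, d6, ← key, ← key, ← key, ← key, ← key, ← key, ← key]
  rfl

theorem mul_enc (A B : Matrix (Fin 7) (Fin 7) (ZMod 11)) : mul (enc A) (enc B) = enc (A * B) := by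
  show (⟨rowMul (encRow (A 0)) (enc B), rowMul (encRow (A 1)) (enc B), rowMul (encRow (A 2)) (enc B),
    rowMul (encRow (A 3)) (enc B), rowMul (encRow (A 4)) (enc B), rowMul (encRow (A 5)) (enc B),
    rowMul (encRow (A 6)) (enc B)⟩ : M7) = _
  rw [rowMul_encRow, rowMul_encRow, rowMul_encRow, rowMul_encRow, rowMul_encRow, rowMul_encRow,
    rowMul_encRow]
  rfl

/-- canonical form -/
def renorm (x : M7) : M7 :=
  ⟨red x.r0, red x.r1, red x.r2, red x.r3, red x.r4, red x.r5, red x.r6⟩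

theorem exists_encRow (v : ℕ) : ∃ f, encRow f = red v :=
  ⟨![((v % 4096 : ℕ) : ZMod 11), ((v / 4096 % 4096 : ℕ) : ZMod 11),
    ((v / 16777216 % 4096 : ℕ) : ZMod 11), ((v / 68719476736 % 4096 : ℕ) : ZMod 11),
    ((v / 281474976710656 % 4096 : ℕ) : ZMod 11), ((v / 1152921504606846976 % 4096 : ℕ) : ZMod 11),
    ((v / 4722366482869645213696 % 4096 : ℕ) : ZMod 11)],
    by simp only [encRow, red, ← ZMod.val_natCast]; rfl⟩

theorem exists_enc (x : M7) : ∃ A, enc A = renorm x := by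
  obtain ⟨f0, h0⟩ := exists_encRow x.r0
  obtain ⟨f1, h1⟩ := exists_encRow x.r1
  obtain ⟨f2, h2⟩ := exists_encRow x.r2
  obtain ⟨f3, h3⟩ := exists_encRow x.r3
  obtain ⟨f4, h4⟩ := exists_encRow x.r4
  obtain ⟨f5, h5⟩ := exists_encRow x.r5
  obtain ⟨f6, h6⟩ := exists_encRow x.r6
  exact ⟨![f0, f1, f2, f3, f4, f5, f6], by
    simp only [renorm, ← h0, ← h1, ← h2, ← h3, ← h4, ← h5, ← h6]; rfl⟩

/-- code of an invertible matrix -/
def encG (g : GL (Fin 7) (ZMod 11)) : M7 := enc (g : Matrix (Fin 7) (Fin 7) (ZMod 11))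

theorem encG_injective : Function.Injective encG := fun _ _ h => Units.ext (enc_injective h)

theorem mul_encG (g h : GL (Fin 7) (ZMod 11)) : mul (encG g) (encG h) = encG (g * h) :=
  mul_enc _ _

/-- code of the identity -/
def one : M7 :=
  ⟨1, 4096, 16777216, 68719476736, 281474976710656, 1152921504606846976, 4722366482869645213696⟩

theorem encG_one : encG 1 = one := eqM_iff.1 (by decide +kernel)

/-- code of `jankoX` -/
def codeX : M7 := encG jankoX

/-- code of `jankoY` -/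
def codeY : M7 := encG jankoY

/-- evaluation of a word: `true` is `jankoX`, `false` is `jankoY` -/
def word : List Bool → M7
  | [] => one
  | b :: w => mul (bif b then codeX else codeY) (word w)

theorem exists_word : ∀ w : List Bool, ∃ g : J1, encG g.1 = word w
  | [] => ⟨1, encG_one⟩
  | b :: w => by
    obtain ⟨g, hg⟩ := exists_word w
    cases b
    · exact ⟨⟨jankoY, Subgroup.subset_closure (Or.inr rfl)⟩ * g, by
        rw [Subgroup.coe_mul, ← mul_encG, hg]; rfl⟩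
    · exact ⟨⟨jankoX, Subgroup.subset_closure (Or.inl rfl)⟩ * g, by
        rw [Subgroup.coe_mul, ← mul_encG, hg]; rfl⟩

end CfsgLib.KnownB.J1
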