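import Cfsg.Agent.Lib.KnownB.J1.Tables

/-!
The order of `Cfsg.Spor.J1` is `175560`, and the centraliser of an involution is the table
`Tab.cent` of `120` elements: the `1463` conjugates of the involution are pairwise distinct and the
products of the table with the transversal are closed under the generators.
-/

set_option autoImplicit false
set_option maxRecDepth 100000

namespace CfsgLib.KnownB.J1

open Cfsg.Spor

/-- entry of a list in parts of `40` -/
def get {α : Type} (L : List (List α)) (d : α) (i : ℕ) : α := (L.getD (i / 40) []).getD (i % 40) d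

/-- element of the centraliser -/
def hC (i : ℕ) : M7 := get Tab.cent one i

/-- element of the transversal -/
def tC (k : ℕ) : M7 := get Tab.trv one k

/-- conjugate of the involution -/
def cC (k : ℕ) : M7 := get Tab.conj one k

/-- a key -/
def key (x : M7) : ℕ :=
  x.r0 + 19342813113834066795298816 * (x.r1 + 19342813113834066795298816 * (x.r2 +
    19342813113834066795298816 * (x.r3 + 19342813113834066795298816 * (x.r4 +
    19342813113834066795298816 * (x.r5 + 19342813113834066795298816 * x.r6)))))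

/-- distinctness of the first `n` values -/
def distinctOK (n : ℕ) (f : ℕ → M7) (pi pos : List (List ℕ)) : Bool :=
  (List.range n).all fun i =>
    Nat.blt (get pos 0 i) n && Nat.beq (get pi 0 (get pos 0 i)) i &&
      (Nat.beq (i + 1) n || Nat.blt (key (f (get pi 0 i))) (key (f (get pi 0 (i + 1)))))

theorem eq_of_distinctOK {n : ℕ} {f : ℕ → M7} {pi pos : List (List ℕ)}
    (h : distinctOK n f pi pos = true) {i j : ℕ} (hi : i < n) (hj : j < n) (he : f i = f j) :
    i = j := by
  simp only [distinctOK, List.all_eq_true, List.mem_range, Bool.and_eq_true, Bool.or_eq_true,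
    Nat.blt_eq, Nat.beq_eq] at h
  have mono : ∀ a b, a < b → b < n → key (f (get pi 0 a)) < key (f (get pi 0 b)) := by
    intro a b hab
    induction b with
    | zero => omega
    | succ b ih =>
      intro hb
      have hstep : key (f (get pi 0 b)) < key (f (get pi 0 (b + 1))) := by
        rcases (h b (by omega)).2 with h1 | h1
        · omega
        · exact h1
      rcases Nat.lt_succ_iff_lt_or_eq.1 hab with h1 | h1
      · exact lt_trans (ih h1 (by omega)) hstep
      · rw [h1]; exact hstep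
  obtain ⟨⟨pi1, pi2⟩, -⟩ := h i hi
  obtain ⟨⟨pj1, pj2⟩, -⟩ := h j hj
  rcases lt_trichotomy (get pos 0 i) (get pos 0 j) with hlt | heq | hgt
  · have := mono _ _ hlt pj1
    rw [pi2, pj2, he] at this
    exact absurd this (lt_irrefl _)
  · rw [← pi2, ← pj2, heq]
  · have := mono _ _ hgt pi1
    rw [pi2, pj2, he] at this
    exact absurd this (lt_irrefl _)

/-- the generators of the centraliser are the values of their words -/
def gensOK : Bool :=
  Nat.beq Tab.gens.length Tab.genWords.length &&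
    (List.range Tab.gens.length).all fun a =>
      eqM (Tab.gens.getD a one) (word (Tab.genWords.getD a []))

/-- the centraliser table -/
def centOK : Bool :=
  (List.range 120).all fun i =>
    (bif Nat.beq i 0 then eqM (hC 0) one else
      Nat.blt (get Tab.centPar (0, 0) i).2 i &&
        Nat.blt (get Tab.centPar (0, 0) i).1 Tab.gens.length &&
        eqM (hC i) (mul (Tab.gens.getD (get Tab.centPar (0, 0) i).1 one)
          (hC (get Tab.centPar (0, 0) i).2))) &&
    eqM (mul Tab.inv (hC i)) (mul (hC i) Tab.inv) &&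
    (List.range Tab.gens.length).all fun a =>
      Nat.blt ((get Tab.centMul [] i).getD a 0) 120 &&
        eqM (mul (Tab.gens.getD a one) (hC i)) (hC ((get Tab.centMul [] i).getD a 0))

/-- the transversal -/
def trvOK : Bool :=
  eqM (tC 0) one && eqM (cC 0) Tab.inv &&
  (List.range 1463).all fun k =>
    (Nat.beq k 0 || Nat.blt (get Tab.trvPar (true, 0) k).2 k &&
      eqM (tC k) (mul (tC (get Tab.trvPar (true, 0) k).2)
        (bif (get Tab.trvPar (true, 0) k).1 then codeX else codeY))) &&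
    eqM (mul (tC k) (cC k)) (mul Tab.inv (tC k)) && eqM (renorm (cC k)) (cC k)

/-- closure under the generators -/
def stepOK : Bool :=
  (List.range 1463).all fun k =>
    let s := get Tab.step ((0, 0), 0, 0) k
    Nat.blt s.1.1 120 && Nat.blt s.1.2 1463 && Nat.blt s.2.1 120 && Nat.blt s.2.2 1463 &&
      eqM (mul (tC k) codeX) (mul (hC s.1.1) (tC s.1.2)) &&
      eqM (mul (tC k) codeY) (mul (hC s.2.1) (tC s.2.2))

theorem invWord_eq : word Tab.invWord = Tab.inv := eqM_iff.1 (by decide +kernel)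
theorem gens_ok : gensOK = true := by decide +kernel
theorem cent_ok : centOK = true := by decide +kernel
theorem trv_ok : trvOK = true := by decide +kernel
theorem step_ok : stepOK = true := by decide +kernel
theorem cent_distinct : distinctOK 120 hC Tab.centPi Tab.centPos = true := by decide +kernel
theorem conj_distinct : distinctOK 1463 cC Tab.conjPi Tab.conjPos = true := by decide +kernel

/-- code of an element of `J1` -/
def encJ (g : J1) : M7 := encG g.1

theorem encJ_injective : Function.Injective encJ :=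
  fun _ _ h => Subtype.ext (encG_injective h)

theorem encJ_mul (a b : J1) : encJ (a * b) = mul (encJ a) (encJ b) := (mul_encG a.1 b.1).symm

theorem encJ_one : encJ 1 = one := encG_one

theorem exists_gen {a : ℕ} (ha : a < Tab.gens.length) : ∃ g : J1, encJ g = Tab.gens.getD a one := by
  have h := gens_ok
  simp only [gensOK, Bool.and_eq_true, List.all_eq_true, List.mem_range, eqM_iff] at h
  rw [h.2 a ha]
  exact exists_word _

theorem exists_inv : ∃ t : J1, encJ t = Tab.inv := invWord_eq ▸ exists_word _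

/-- the involution -/
noncomputable def t₀ : J1 := exists_inv.choose

theorem encJ_t₀ : encJ t₀ = Tab.inv := exists_inv.choose_spec

theorem centFacts {i : ℕ} (hi : i < 120) :
    (i = 0 → hC i = one) ∧
    (i ≠ 0 → (get Tab.centPar (0, 0) i).2 < i ∧ (get Tab.centPar (0, 0) i).1 < Tab.gens.length ∧
      hC i = mul (Tab.gens.getD (get Tab.centPar (0, 0) i).1 one)
        (hC (get Tab.centPar (0, 0) i).2)) ∧
    mul Tab.inv (hC i) = mul (hC i) Tab.inv ∧
    ∀ a < Tab.gens.length, (get Tab.centMul [] i).getD a 0 < 120 ∧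
      mul (Tab.gens.getD a one) (hC i) = hC ((get Tab.centMul [] i).getD a 0) := by
  have h := cent_ok
  simp only [centOK, List.all_eq_true, List.mem_range, Bool.and_eq_true, Nat.blt_eq,
    eqM_iff] at h
  obtain ⟨⟨h1, h2⟩, h3⟩ := h i hi
  refine ⟨?_, ?_, h2, h3⟩
  · rintro rfl
    simpa [eqM_iff] using h1
  · intro hne
    cases hb : Nat.beq i 0
    · simpa [hb, and_assoc, eqM_iff] using h1
    · exact absurd (Nat.eq_of_beq_eq_true hb) hne

theorem exists_cent : ∀ {i : ℕ}, i < 120 → ∃ g : J1, encJ g = hC i := by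
  intro i
  induction i using Nat.strong_induction_on with
  | _ i ih =>
    intro hi
    obtain ⟨h0, h1, -⟩ := centFacts hi
    rcases eq_or_ne i 0 with hz | hz
    · exact ⟨1, by rw [h0 hz, encJ_one]⟩
    · obtain ⟨hlt, ha, e⟩ := h1 hz
      obtain ⟨g, hg⟩ := exists_gen ha
      obtain ⟨b, hb⟩ := ih _ hlt (by omega)
      exact ⟨g * b, by rw [encJ_mul, hg, hb, e]⟩

/-- elements of the centraliser -/
noncomputable def hEl (i : Fin 120) : J1 := (exists_cent i.2).choose

theorem encJ_hEl (i : Fin 120) : encJ (hEl i) = hC i := (exists_cent i.2).choose_spec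

theorem hEl_zero : hEl 0 = 1 :=
  encJ_injective (by rw [encJ_hEl, encJ_one]; exact (centFacts (i := 0) (by norm_num)).1 rfl)

theorem hEl_mul (i j : Fin 120) : ∃ l, hEl i * hEl j = hEl l := by
  obtain ⟨i, hi⟩ := i
  induction i using Nat.strong_induction_on generalizing j with
  | _ i ih =>
    obtain ⟨-, h1, -⟩ := centFacts hi
    rcases eq_or_ne i 0 with hz | hz
    · subst hz
      exact ⟨j, by rw [show (⟨0, hi⟩ : Fin 120) = 0 from rfl, hEl_zero, one_mul]⟩
    · obtain ⟨hlt, ha, e⟩ := h1 hz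
      obtain ⟨l, hl⟩ := ih _ hlt j (by omega)
      obtain ⟨g, hg⟩ := exists_gen ha
      obtain ⟨-, -, -, hmul⟩ := centFacts l.2
      obtain ⟨hb, em⟩ := hmul _ ha
      refine ⟨⟨_, hb⟩, encJ_injective ?_⟩
      have e' : hEl ⟨i, hi⟩ = g * hEl ⟨(get Tab.centPar (0, 0) i).2, by omega⟩ :=
        encJ_injective (by rw [encJ_mul, hg, encJ_hEl, encJ_hEl]; exact e)
      rw [e', mul_assoc, hl, encJ_mul, hg, encJ_hEl, encJ_hEl, em]

theorem hEl_injective : Function.Injective hEl := fun a b h =>
  Fin.ext (eq_of_distinctOK cent_distinct a.2 b.2 (by rw [← encJ_hEl, ← encJ_hEl, h]))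

theorem hEl_comm (i : Fin 120) : t₀ * hEl i = hEl i * t₀ :=
  encJ_injective (by rw [encJ_mul, encJ_mul, encJ_t₀, encJ_hEl]; exact (centFacts i.2).2.2.1)

/-- `jankoX` in `J1` -/
def genX : J1 := ⟨jankoX, Subgroup.subset_closure (Or.inl rfl)⟩

/-- `jankoY` in `J1` -/
def genY : J1 := ⟨jankoY, Subgroup.subset_closure (Or.inr rfl)⟩

theorem trvFacts {k : ℕ} (hk : k < 1463) :
    (k ≠ 0 → (get Tab.trvPar (true, 0) k).2 < k ∧
      tC k = mul (tC (get Tab.trvPar (true, 0) k).2)
        (bif (get Tab.trvPar (true, 0) k).1 then codeX else codeY)) ∧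
    mul (tC k) (cC k) = mul Tab.inv (tC k) ∧ renorm (cC k) = cC k := by
  have h := trv_ok
  simp only [trvOK, List.all_eq_true, List.mem_range, Bool.and_eq_true, Bool.or_eq_true,
    Nat.blt_eq, Nat.beq_eq, eqM_iff] at h
  obtain ⟨⟨h1, h2⟩, h3⟩ := h.2 k hk
  exact ⟨fun hne => h1.resolve_left hne, h2, h3⟩

theorem exists_trv : ∀ {k : ℕ}, k < 1463 → ∃ g : J1, encJ g = tC k := by
  intro k
  induction k using Nat.strong_induction_on with
  | _ k ih =>
    intro hk
    rcases eq_or_ne k 0 with hz | hz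
    · subst hz
      have h := trv_ok
      simp only [trvOK, Bool.and_eq_true, eqM_iff] at h
      exact ⟨1, by rw [encJ_one, h.1.1]⟩
    · obtain ⟨hlt, e⟩ := (trvFacts hk).1 hz
      obtain ⟨b, hb⟩ := ih _ hlt (by omega)
      rw [e]
      cases (get Tab.trvPar (true, 0) k).1
      · exact ⟨b * genY, by rw [encJ_mul, hb]; rfl⟩
      · exact ⟨b * genX, by rw [encJ_mul, hb]; rfl⟩

/-- the transversal in the group -/
noncomputable def tEl (k : Fin 1463) : J1 := (exists_trv k.2).choose

theorem encJ_tEl (k : Fin 1463) : encJ (tEl k) = tC k := (exists_trv k.2).choose_spec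

theorem tEl_zero : tEl 0 = 1 := by
  have h := trv_ok
  simp only [trvOK, Bool.and_eq_true, eqM_iff] at h
  exact encJ_injective (by rw [encJ_tEl, encJ_one]; exact h.1.1)

/-- the conjugate of the involution by a member of the transversal -/
theorem encJ_conj (k : Fin 1463) : encJ ((tEl k)⁻¹ * t₀ * tEl k) = cC k := by
  have h1 : mul (encJ (tEl k)) (encJ ((tEl k)⁻¹ * t₀ * tEl k)) =
      mul (encJ (tEl k)) (cC k) := by
    rw [← encJ_mul, mul_assoc, mul_inv_cancel_left, encJ_mul, encJ_t₀, encJ_tEl,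
      (trvFacts k.2).2.1]
  have h2 : ∀ x : M7, (∃ A : Matrix (Fin 7) (Fin 7) (ZMod 11), enc A = x) →
      mul (encJ (tEl k)) (encJ ((tEl k)⁻¹ * t₀ * tEl k)) = mul (encJ (tEl k)) x →
      encJ ((tEl k)⁻¹ * t₀ * tEl k) = x := by
    rintro x ⟨A, rfl⟩ he
    simp only [encJ, encG, mul_enc] at he ⊢
    exact congrArg enc ((tEl k).1.isUnit.mul_left_cancel (enc_injective he))
  refine h2 _ ?_ h1
  rw [← (trvFacts k.2).2.2]
  exact exists_enc _

theorem stepFacts {k : ℕ} (hk : k < 1463) :
    (∃ i < 120, ∃ j < 1463, mul (tC k) codeX = mul (hC i) (tC j)) ∧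
    ∃ i < 120, ∃ j < 1463, mul (tC k) codeY = mul (hC i) (tC j) := by
  have h := step_ok
  simp only [stepOK, List.all_eq_true, List.mem_range, Bool.and_eq_true, Nat.blt_eq, eqM_iff] at h
  obtain ⟨⟨⟨⟨⟨a, b⟩, c⟩, d⟩, e⟩, f⟩ := h k hk
  exact ⟨⟨_, a, _, b, e⟩, _, c, _, d, f⟩

/-- the decomposition -/
noncomputable def dec (p : Fin 120 × Fin 1463) : J1 := hEl p.1 * tEl p.2

theorem dec_mul_gen (p : Fin 120 × Fin 1463) :
    (∃ q, dec p * genX = dec q) ∧ ∃ q, dec p * genY = dec q := by
  obtain ⟨⟨i, hi, j, hj, e⟩, i', hi', j', hj', e'⟩ := stepFacts p.2.2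
  constructor
  · have e1 : tEl p.2 * genX = hEl ⟨i, hi⟩ * tEl ⟨j, hj⟩ :=
      encJ_injective (by rw [encJ_mul, encJ_mul, encJ_tEl, encJ_hEl, encJ_tEl]; exact e)
    obtain ⟨l, hl⟩ := hEl_mul p.1 ⟨i, hi⟩
    exact ⟨(l, ⟨j, hj⟩), by rw [dec, dec, mul_assoc, e1, ← mul_assoc, hl]⟩
  · have e1 : tEl p.2 * genY = hEl ⟨i', hi'⟩ * tEl ⟨j', hj'⟩ :=
      encJ_injective (by rw [encJ_mul, encJ_mul, encJ_tEl, encJ_hEl, encJ_tEl]; exact e')
    obtain ⟨l, hl⟩ := hEl_mul p.1 ⟨i', hi'⟩
    exact ⟨(l, ⟨j', hj'⟩), by rw [dec, dec, mul_assoc, e1, ← mul_assoc, hl]⟩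

theorem dec_surjective : Function.Surjective dec := by
  rintro ⟨x, hx⟩
  have hx' : x ∈ Submonoid.closure ({jankoX, jankoY} : Set (GL (Fin 7) (ZMod 11))) := by
    rw [← Subgroup.closure_toSubmonoid_of_finite]
    exact hx
  suffices H : ∃ p, (dec p : GL (Fin 7) (ZMod 11)) = x from
    let ⟨p, hp⟩ := H; ⟨p, Subtype.ext hp⟩
  clear hx
  induction hx' using Submonoid.closure_induction_right with
  | one => exact ⟨(0, 0), by rw [dec, hEl_zero, tEl_zero, one_mul]; rfl⟩
  | mul_right y _ z hz ih =>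
    obtain ⟨p, hp⟩ := ih
    obtain ⟨⟨q, hq⟩, q', hq'⟩ := dec_mul_gen p
    rcases hz with rfl | rfl
    · exact ⟨q, by rw [← hq, ← hp]; rfl⟩
    · exact ⟨q', by rw [← hq', ← hp]; rfl⟩

theorem conj_injective : Function.Injective fun k => (tEl k)⁻¹ * t₀ * tEl k := fun a b h =>
  Fin.ext (eq_of_distinctOK conj_distinct a.2 b.2
    (by rw [← encJ_conj, ← encJ_conj]; exact congrArg encJ h))

theorem conj_dec (p : Fin 120 × Fin 1463) :
    (dec p)⁻¹ * t₀ * dec p = (tEl p.2)⁻¹ * t₀ * tEl p.2 := by
  rw [dec, mul_inv_rev]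
  calc (tEl p.2)⁻¹ * (hEl p.1)⁻¹ * t₀ * (hEl p.1 * tEl p.2)
      = (tEl p.2)⁻¹ * (hEl p.1)⁻¹ * (t₀ * hEl p.1) * tEl p.2 := by group
    _ = _ := by rw [hEl_comm]; group

theorem dec_injective : Function.Injective dec := fun p q h => by
  have h2 : p.2 = q.2 := conj_injective (by
    show (tEl p.2)⁻¹ * t₀ * tEl p.2 = (tEl q.2)⁻¹ * t₀ * tEl q.2
    rw [← conj_dec, ← conj_dec, h])
  have h1 : hEl p.1 = hEl q.1 := by
    have := h
    rw [dec, dec, h2] at this
    exact mul_right_cancel this
  exact Prod.ext (hEl_injective h1) h2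

/-- `|J₁| = 175560` -/
theorem natCard_J1 : Nat.card J1 = 175560 := by
  rw [← Nat.card_eq_of_bijective dec ⟨dec_injective, dec_surjective⟩, Nat.card_prod,
    Nat.card_fin, Nat.card_fin]

/-- the centraliser of the involution is the table -/
theorem mem_centralizer_t₀ {g : J1} :
    g ∈ Subgroup.centralizer ({t₀} : Set J1) ↔ ∃ i, hEl i = g := by
  rw [Subgroup.mem_centralizer_singleton_iff]
  constructor
  · intro hg
    obtain ⟨p, rfl⟩ := dec_surjective g
    have h := conj_dec p
    rw [show (dec p)⁻¹ * t₀ * dec p = t₀ by rw [mul_assoc, ← hg, inv_mul_cancel_left]] at h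
    have h0 : p.2 = 0 := conj_injective (by
      show (tEl p.2)⁻¹ * t₀ * tEl p.2 = (tEl 0)⁻¹ * t₀ * tEl 0
      rw [tEl_zero, inv_one, one_mul, mul_one, ← h])
    exact ⟨p.1, by rw [dec, h0, tEl_zero, mul_one]⟩
  · rintro ⟨i, rfl⟩
    exact (hEl_comm i).symm

theorem natCard_centralizer_t₀ : Nat.card (Subgroup.centralizer ({t₀} : Set J1)) = 120 := by
  have e : Nat.card (Subgroup.centralizer ({t₀} : Set J1)) = Nat.card (Set.range hEl) :=
    Nat.card_congr (Equiv.subtypeEquivRight fun g => mem_centralizer_t₀)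
  rw [e, Nat.card_range_of_injective hEl_injective, Nat.card_fin]

end CfsgLib.KnownB.J1
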